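import Mathlib

set_option autoImplicit false
universe w v u

open CategoryTheory Limits

namespace Groth.Agent.H9Misc.EulerUp

variable {C : Type u} [Category.{v} C] [Abelian C] {G : Type w} [AddCommGroup G]

/-- Euler characteristic of a finite complex of shape `up' v` for a function additive on short exact sequences. -/
theorem euler {κ : Type*} [AddCommGroup κ] (v : κ) (lam : C → G) (P : C → Prop)
    (hadd : ∀ S : ShortComplex C, S.ShortExact → P S.X₂ →
      lam S.X₂ = lam S.X₁ + lam S.X₃ ∧ P S.X₁ ∧ P S.X₃)
    (h0 : ∀ X : C, IsZero X → lam X = 0)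
    (E : HomologicalComplex C (ComplexShape.up' v)) (hP : ∀ i, P (E.X i)) (s : Finset κ)
    (hs : ∀ i, i ∉ s → IsZero (E.X i)) (ε : κ → ℤ) (hε : ∀ i, ε (i + v) = - ε i) :
    ∑ i ∈ s, ε i • lam (E.X i) = ∑ i ∈ s, ε i • lam (E.homology i) := by
  let J : κ → C := fun i => Limits.image (E.toCycles i (i + v))
  have hz : ∀ i, E.iCycles i ≫ factorThruImage (E.toCycles i (i + v)) = 0 := by
    intro i
    rw [← cancel_mono (Limits.image.ι (E.toCycles i (i + v))), Category.assoc, Limits.image.fac,
      zero_comp, ← cancel_mono (E.iCycles (i + v))]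
    simp
  let S1 : κ → ShortComplex C := fun i =>
    ShortComplex.mk (E.iCycles i) (factorThruImage (E.toCycles i (i + v))) (hz i)
  have h1 : ∀ i, (S1 i).ShortExact := by
    intro i
    have : Mono (S1 i).f := by dsimp [S1]; infer_instance
    have : Epi (S1 i).g := by dsimp [S1]; infer_instance
    refine ShortComplex.ShortExact.mk' ?_ ‹_› ‹_›
    apply ShortComplex.exact_of_f_is_kernel
    refine KernelFork.IsLimit.ofι' _ _ fun {A} k hk => ?_
    have hk' : k ≫ E.d i (i + v) = 0 := by
      have : k ≫ E.toCycles i (i + v) = 0 := by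
        rw [← Limits.image.fac (E.toCycles i (i + v)), ← Category.assoc]
        exact (congrArg (· ≫ Limits.image.ι (E.toCycles i (i + v))) hk).trans zero_comp
      rw [← E.toCycles_i i (i + v), ← Category.assoc, this, zero_comp]
    exact ⟨E.liftCycles k (i + v) (ComplexShape.next_eq' _ rfl) hk', by simp [S1]⟩
  have hz2 : ∀ i, Limits.image.ι (E.toCycles i (i + v)) ≫ E.homologyπ (i + v) = 0 := by
    intro i
    rw [← cancel_epi (factorThruImage (E.toCycles i (i + v))), ← Category.assoc, Limits.image.fac,
      comp_zero, HomologicalComplex.toCycles_comp_homologyπ]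
  let S2 : κ → ShortComplex C := fun i =>
    ShortComplex.mk (Limits.image.ι (E.toCycles i (i + v))) (E.homologyπ (i + v)) (hz2 i)
  have h2 : ∀ i, (S2 i).ShortExact := by
    intro i
    have : Mono (S2 i).f := by dsimp [S2]; infer_instance
    have : Epi (S2 i).g := by dsimp [S2]; infer_instance
    refine ShortComplex.ShortExact.mk' ?_ ‹_› ‹_›
    let T : ShortComplex C := ShortComplex.mk (E.toCycles i (i + v)) (E.homologyπ (i + v)) (by simp)
    let φ : T ⟶ S2 i :=
      { τ₁ := factorThruImage (E.toCycles i (i + v))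
        τ₂ := 𝟙 _
        τ₃ := 𝟙 _
        comm₁₂ := by simp [T, S2]
        comm₂₃ := by simp [T, S2] }
    have : Epi φ.τ₁ := by dsimp [φ]; infer_instance
    have : IsIso φ.τ₂ := by dsimp [φ]; infer_instance
    have : Mono φ.τ₃ := by dsimp [φ]; infer_instance
    refine (ShortComplex.exact_iff_of_epi_of_isIso_of_mono φ).1 ?_
    exact ShortComplex.exact_of_g_is_cokernel _ (E.homologyIsCokernel i (i + v) (ComplexShape.prev_eq' _ rfl))
  have hc : ∀ i, lam (E.X i) = lam (E.cycles i) + lam (J i) ∧ P (E.cycles i) ∧ P (J i) :=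
    fun i => hadd (S1 i) (h1 i) (hP i)
  have hh : ∀ i, lam (E.cycles (i + v)) = lam (J i) + lam (E.homology (i + v)) :=
    fun i => (hadd (S2 i) (h2 i) (hc (i + v)).2.1).1
  have hX : ∀ i, lam (E.X i) = lam (E.homology i) + (lam (J i) + lam (J (i - v))) := by
    intro i
    obtain ⟨j, rfl⟩ : ∃ j, i = j + v := ⟨i - v, (sub_add_cancel i v).symm⟩
    rw [(hc (j + v)).1, hh j, add_sub_cancel_right]
    abel
  let F : κ → G := fun i => ε i • lam (J i)
  have hF : ∀ i, (i ∉ s ∨ i + v ∉ s) → F i = 0 := by
    intro i hi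
    have hJ : IsZero (J i) := by
      rcases hi with hi | hi
      · exact IsZero.of_epi (factorThruImage (E.toCycles i (i + v))) (hs i hi)
      · exact IsZero.of_mono (Limits.image.ι (E.toCycles i (i + v)) ≫ E.iCycles (i + v)) (hs _ hi)
    simp [F, h0 _ hJ]
  calc ∑ i ∈ s, ε i • lam (E.X i)
      = ∑ i ∈ s, (ε i • lam (E.homology i) + (F i - F (i - v))) := by
        refine Finset.sum_congr rfl fun i _ => ?_
        have he : ε (i - v) = - ε i := by
          have := hε (i - v); rw [sub_add_cancel] at this; omega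
        simp only [F, he]
        rw [hX i, smul_add, smul_add, neg_smul, sub_neg_eq_add]
    _ = ∑ i ∈ s, ε i • lam (E.homology i) := by
        rw [Finset.sum_add_distrib, Finset.sum_sub_distrib]
        have h : ∑ i ∈ s, F (i - v) = ∑ i ∈ s, F i := by
          have e1 : ∑ i ∈ s, F i = ∑ᶠ i, F i :=
            (finsum_eq_sum_of_support_subset _ fun i hi => by
              by_contra h; exact hi (hF i (Or.inl (by simpa using h)))).symm
          have e2 : ∑ i ∈ s, F (i - v) = ∑ᶠ i, F (i - v) :=
            (finsum_eq_sum_of_support_subset _ fun i hi => by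
              by_contra h; exact hi (hF (i - v) (Or.inr (by simpa using h)))).symm
          rw [e1, e2]
          exact finsum_comp_equiv (Equiv.subRight v) (f := F)
        rw [h, sub_self, add_zero]

end Groth.Agent.H9Misc.EulerUp
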